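import Mathlib

set_option maxHeartbeats 400000

namespace Groth.Agent.H98IntVal

open Polynomial Finset

/-- A polynomial of degree ≤ g with integer values at g+1 consecutive integers becomes integral
after multiplication with g!. -/
theorem exists_map_eq_factorial_mul (g : ℕ) (R : ℚ[X]) (hR : R.natDegree ≤ g) (n0 : ℤ)
    (h : ∀ m : ℕ, m ≤ g → ∃ z : ℤ, R.eval ((n0 : ℚ) + m) = z) :
    ∃ P : ℤ[X], P.map (Int.castRingHom ℚ) = C (g.factorial : ℚ) * R := by
  choose z hz using h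
  let f : ℕ → ℤ := fun m => if hm : m ≤ g then z m hm else 0
  have hf : ∀ m ≤ g, R.eval ((n0 : ℚ) + m) = f m := fun m hm => by
    rw [hz m hm]; simp [f, hm]
  refine ⟨∑ k ∈ range (g + 1),
    C (((g.factorial / k.factorial : ℕ) : ℤ) * ((fwdDiff (1 : ℕ))^[k] f 0)) *
      (descPochhammer ℤ k).comp (X - C n0), ?_⟩
  have hdeg : ∀ k : ℕ, ((descPochhammer ℚ k).comp (X - C (n0 : ℚ))).natDegree ≤ k := fun k => by
    refine natDegree_comp_le.trans ?_
    rw [descPochhammer_natDegree, natDegree_X_sub_C, mul_one]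
  have hm : ∀ k : ℕ, ((descPochhammer ℤ k).comp (X - C n0)).map (Int.castRingHom ℚ) =
      (descPochhammer ℚ k).comp (X - C (n0 : ℚ)) := fun k => by
    rw [Polynomial.map_comp, descPochhammer_map]
    simp
  refine Polynomial.eq_of_natDegree_lt_card_of_eval_eq _ _
    (f := fun i : Fin (g + 1) => (n0 : ℚ) + (i : ℕ)) (fun a b hab => ?_) (fun i => ?_) ?_
  · exact Fin.ext (by simpa using hab)
  · have hi : (i : ℕ) ≤ g := Nat.lt_succ_iff.mp i.2
    rw [Polynomial.map_sum, eval_finsetSum, eval_mul, eval_C, hf _ hi]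
    have key := shift_eq_sum_fwdDiff_iter (1 : ℕ) f (i : ℕ) 0
    simp only [zero_add, smul_eq_mul, mul_one] at key
    rw [key, Int.cast_sum, Finset.mul_sum]
    rw [← Finset.sum_subset (Finset.range_mono (Nat.succ_le_succ hi))]
    · refine Finset.sum_congr rfl fun k hk => ?_
      have hk' : k ≤ g := (Nat.lt_succ_iff.mp (Finset.mem_range.mp hk)).trans hi
      rw [Polynomial.map_mul, map_C, eval_mul, eval_C, hm, eval_comp]
      simp only [eval_sub, eval_X, eval_C, add_sub_cancel_left, nsmul_eq_mul, Int.cast_mul,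
        map_mul, map_natCast, eq_intCast, Int.cast_natCast]
      rw [Nat.cast_choose_eq_descPochhammer_div ℚ (i : ℕ) k,
        Nat.cast_div (Nat.factorial_dvd_factorial hk') (by exact_mod_cast k.factorial_ne_zero)]
      ring
    · intro k _ hk
      have : (i : ℕ) < k := by simpa using hk
      rw [Polynomial.map_mul, map_C, eval_mul, eval_C, hm, eval_comp]
      simp only [eval_sub, eval_X, eval_C, add_sub_cancel_left]
      rw [descPochhammer_eval_eq_descFactorial, Nat.descFactorial_eq_zero_iff_lt.mpr this]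
      simp
  · rw [Fintype.card_fin]
    refine max_lt (Nat.lt_succ_of_le ?_) (Nat.lt_succ_of_le ((natDegree_C_mul_le _ _).trans hR))
    rw [Polynomial.map_sum]
    refine natDegree_sum_le_of_forall_le _ _ fun k hk => ?_
    rw [Polynomial.map_mul, map_C, hm]
    exact (natDegree_C_mul_le _ _).trans ((hdeg k).trans (Nat.lt_succ_iff.mp (mem_range.mp hk)))

/-- If `b^(2g) Q(a/b)` is integral for all `a/b` in an interval, `g! Q` is integral. -/
theorem factorial_mul_coeff_isInt (g : ℕ) (u v : ℚ) (huv : u < v) (Q : ℚ[X])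
    (hQ : Q.natDegree ≤ g)
    (h : ∀ (a : ℤ) (b : ℕ), 0 < b → u < (a : ℚ) / (b : ℚ) → (a : ℚ) / (b : ℚ) < v →
      ∃ z : ℤ, (b : ℚ) ^ (2 * g) * Q.eval ((a : ℚ) / (b : ℚ)) = z)
    (j : ℕ) : ∃ z : ℤ, (g.factorial : ℚ) * Q.coeff j = z := by
  by_cases hj : g < j
  · exact ⟨0, by rw [coeff_eq_zero_of_natDegree_lt (hQ.trans_lt hj)]; simp⟩
  obtain ⟨B, hB⟩ := exists_nat_gt ((g + 1 : ℚ) / (v - u))
  have main : ∀ b : ℕ, B < b → ∃ z : ℤ, (g.factorial : ℚ) * Q.coeff j * (b : ℚ) ^ (2 * g - j) = z := by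
    intro b hb
    have hb0 : 0 < b := lt_of_le_of_lt (Nat.zero_le _) hb
    have hbq : (0 : ℚ) < b := by exact_mod_cast hb0
    have hbv : (g + 1 : ℚ) < b * (v - u) := by
      have : (g + 1 : ℚ) / (v - u) < b := hB.trans (by exact_mod_cast hb)
      rwa [div_lt_iff₀ (sub_pos.mpr huv)] at this
    let R : ℚ[X] := ∑ i ∈ range (g + 1), C (Q.coeff i * (b : ℚ) ^ (2 * g - i)) * X ^ i
    have hRd : R.natDegree ≤ g := natDegree_sum_le_of_forall_le _ _ fun i hi =>
      (natDegree_C_mul_X_pow_le _ _).trans (Nat.lt_succ_iff.mp (mem_range.mp hi))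
    have hRe : ∀ x : ℚ, R.eval x = (b : ℚ) ^ (2 * g) * Q.eval (x / b) := fun x => by
      rw [eval_eq_sum_range' (Nat.lt_succ_of_le hQ) (x / b), eval_finsetSum, Finset.mul_sum]
      refine Finset.sum_congr rfl fun i hi => ?_
      have : i ≤ 2 * g := by have := mem_range.mp hi; omega
      rw [eval_mul, eval_C, eval_pow, eval_X, div_pow, pow_sub₀ _ hbq.ne' this]
      field_simp
    obtain ⟨P, hP⟩ := exists_map_eq_factorial_mul g R hRd (⌊u * b⌋ + 1) (fun m hm => by
      have h1 := Int.floor_le (u * b)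
      have h2 := Int.lt_floor_add_one (u * b)
      have hm' : (m : ℚ) ≤ g := by exact_mod_cast hm
      have hm0 : (0 : ℚ) ≤ m := Nat.cast_nonneg m
      obtain ⟨z, hz⟩ := h (⌊u * b⌋ + 1 + m) b hb0
        (by rw [lt_div_iff₀ hbq]; push_cast; linarith)
        (by rw [div_lt_iff₀ hbq]; push_cast; nlinarith)
      refine ⟨z, ?_⟩
      rw [hRe, ← hz]; push_cast; rfl)
    refine ⟨P.coeff j, ?_⟩
    have hc := congrArg (fun p => p.coeff j) hP
    simp only [coeff_map, eq_intCast, coeff_C_mul] at hc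
    rw [hc, finsetSum_coeff]
    simp only [coeff_C_mul, coeff_X_pow, mul_ite, mul_one, mul_zero]
    rw [Finset.sum_ite_eq, if_pos (by simp; omega), mul_assoc]
  obtain ⟨z1, h1⟩ := main (B + 1) (by omega)
  obtain ⟨z2, h2⟩ := main (B + 2) (by omega)
  have hc : IsCoprime (((B + 1 : ℕ) : ℤ) ^ (2 * g - j)) (((B + 2 : ℕ) : ℤ) ^ (2 * g - j)) := by
    apply IsCoprime.pow
    exact ⟨-1, 1, by push_cast; ring⟩
  obtain ⟨s, t, hst⟩ := hc
  refine ⟨s * z1 + t * z2, ?_⟩
  have hst' : (s : ℚ) * ((B + 1 : ℕ) : ℚ) ^ (2 * g - j) + t * ((B + 2 : ℕ) : ℚ) ^ (2 * g - j) = 1 := by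
    exact_mod_cast hst
  rw [Int.cast_add, Int.cast_mul, Int.cast_mul, ← h1, ← h2]
  linear_combination -(g.factorial : ℚ) * Q.coeff j * hst'

end Groth.Agent.H98IntVal
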